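import Groth.Agent.EtaPt32.Rel
import Mathlib.RingTheory.Localization.Away.Basic
import Mathlib.RingTheory.Spectrum.Prime.RingHom
import Mathlib.RingTheory.Localization.Integral
import Mathlib.RingTheory.Ideal.MinimalPrime.Localization

/-!
# The pointwise construction and localization away from an element
-/

set_option autoImplicit false
universe u
open EtaPt

namespace Groth.Agent.EtaPt32

variable (η : FieldEndo.{u})
variable {A B : Type u} [CommRing A] [CommRing B]

lemma Nmap_surjective_of_isLocalization (S : Type u) [CommRing S] [Algebra A S] (M : Submonoid A)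
    [IsLocalization M S] : Function.Surjective (η.Nmap (algebraMap A S)) :=
  Nmap_surjective η _ (PrimeSpectrum.localization_comap_injective S M) fun _ =>
    (bijective_map_of_bijective η _
      ((RingHom.surjectiveOnStalks_of_isLocalization M S).residueFieldMap_bijective _ _ _)).2

lemma t_mul_eq_zero_of_Nmap_eq_zero (S : Type u) [CommRing S] [Algebra A S] (f : A)
    [IsLocalization.Away f S] {x : η.N A} (h : η.Nmap (algebraMap A S) x = 0) :
    η.t A f * x = 0 := by
  funext P
  by_cases hf : f ∈ P.asIdeal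
  · rw [Pi.mul_apply, (t_apply_eq_zero_iff η f P).mpr hf, zero_mul]; rfl
  · have : P ∈ Set.range (PrimeSpectrum.comap (algebraMap A S)) := by
      rw [PrimeSpectrum.localization_away_comap_range S f]; exact hf
    obtain ⟨Q, rfl⟩ := this
    have h0 := congrFun h Q
    rw [Nmap_apply] at h0
    have hx : x (PrimeSpectrum.comap (algebraMap A S) Q) = 0 := (map_eq_zero _).mp h0
    rw [Pi.mul_apply, hx, mul_zero]; rfl

/-- Elements of `M (A_f)` come from `M A` after multiplication by a power of `f`. -/
lemma exists_mem_M_of_away (hA : (minimalPrimes A).Finite) (S : Type u) [CommRing S] [Algebra A S]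
    (f : A) [IsLocalization.Away f S] {y : η.N S} (hy : y ∈ η.M S) :
    ∃ x ∈ η.M A, ∃ n : ℕ, y * η.t S (algebraMap A S f) ^ n = η.Nmap (algebraMap A S) x := by
  have hS : (minimalPrimes S).Finite := by
    refine Set.Finite.of_finite_image (f := Ideal.comap (algebraMap A S)) (hA.subset ?_)
      (Function.Injective.injOn ?_)
    · rintro _ ⟨q, hq, rfl⟩
      have hq' : q ∈ (Ideal.map (algebraMap A S) ⊥).minimalPrimes := by rwa [Ideal.map_bot]
      rw [IsLocalization.minimalPrimes_map (Submonoid.powers f) S ⊥] at hq'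
      exact hq'
    · exact (IsLocalization.orderEmbedding (Submonoid.powers f) S).injective
  letI : Algebra S (η.N S) := (η.t S).toAlgebra
  letI : Algebra A (η.N S) := ((η.t S).comp (algebraMap A S)).toAlgebra
  have : IsScalarTower A S (η.N S) := .of_algebraMap_eq' rfl
  have hint : IsIntegral S y := by
    obtain ⟨p, hp, hp0⟩ := isIntegral_q η hS ⟨y, hy⟩
    refine ⟨p, hp, ?_⟩
    have := congrArg (η.M S).subtype hp0
    rwa [Polynomial.hom_eval₂, map_zero] at this
  obtain ⟨⟨_, k, rfl⟩, hk⟩ :=
    IsIntegral.exists_multiple_integral_of_isLocalization (Submonoid.powers f) y hint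
  obtain ⟨x0, hx0⟩ := Nmap_surjective_of_isLocalization η S (Submonoid.powers f) y
  refine ⟨η.t A f ^ (k + 1) * x0, ?_, k + 1, by
    rw [map_mul, map_pow, η.Nmap_t_apply, hx0, mul_comm]⟩
  refine mem_M_of_residue η fun R _ _ _ hR g => ?_
  by_cases hgf : g f = 0
  · refine ⟨0, fun Q => ?_⟩
    rw [map_mul, map_pow, ev_t, RingHom.comp_apply, hgf]
    simp
  let L := FractionRing R
  let gL : A →+* L := (algebraMap R L).comp g
  have hu : IsUnit (gL f) :=
    isUnit_iff_ne_zero.mpr fun e => hgf (IsFractionRing.injective R L (e.trans (map_zero _).symm))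
  let gS : S →+* L := IsLocalization.Away.lift f hu
  have hgS : gS.comp (algebraMap A S) = gL := IsLocalization.Away.lift_comp f hu
  obtain ⟨ρ', hρ'⟩ := hR.2 (ev η gS y)
  have hσint : IsIntegral R (gL f ^ k * ρ') := by
    obtain ⟨p, hp, hp0⟩ := hk
    refine ⟨p.map g, hp.map g, ?_⟩
    rw [Polynomial.eval₂_map]
    apply hR.1
    rw [Polynomial.hom_eval₂, map_zero]
    have := congrArg (ev η gS) hp0
    rw [Polynomial.hom_eval₂, map_zero] at this
    convert this using 2
    · ext a
      change η.eta L (gL a) = ev η gS (η.t S (algebraMap A S a))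
      rw [ev_t, ← hgS]; rfl
    · rw [Submonoid.smul_def, Algebra.smul_def, map_mul, hρ']
      rw [IsScalarTower.algebraMap_apply A S (η.N S), map_mul (ev η gS)]
      erw [ev_t]
      rw [← hgS]
      simp
      exact Or.inl rfl
  have := isIntegrallyClosed_of_valuationRing R
  obtain ⟨σ, hσ⟩ := IsIntegrallyClosed.isIntegral_iff.mp hσint
  refine ⟨g f * σ, fun Q => ?_⟩
  by_cases hQ : g f ∈ Q.asIdeal
  · have h0 : algebraMap R Q.asIdeal.ResidueField (g f) = 0 :=
      Ideal.algebraMap_residueField_eq_zero.mpr hQ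
    rw [map_mul, map_pow, ev_t, RingHom.comp_apply, h0, map_mul, h0]
    simp
  obtain ⟨O, g', hg', hc⟩ := exists_valuationSubring_center (algebraMap R L) Q.asIdeal
    (by rw [(RingHom.injective_iff_ker_eq_bot _).mp (IsFractionRing.injective R L)]; exact bot_le)
  have huO : IsUnit ((g'.comp g) f) := by
    by_contra hn
    exact hQ (hc ▸ ((IsLocalRing.mem_maximalIdeal _).mpr hn : g' (g f) ∈ IsLocalRing.maximalIdeal O))
  let gO : S →+* O := IsLocalization.Away.lift f huO
  have hgO : gO.comp (algebraMap A S) = g'.comp g := IsLocalization.Away.lift_comp f huO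
  have hgOS : O.subtype.comp gO = gS := by
    refine IsLocalization.ringHom_ext (Submonoid.powers f) ?_
    rw [RingHom.comp_assoc, hgO, hgS, ← RingHom.comp_assoc, hg']
  obtain ⟨r', hr'⟩ := mem_M.exists_valuationSubring η hy O hR gO
  have hrρ : (r' : L) = ρ' := hR.1 (by rw [hr', hgOS, hρ'])
  have key := mem_M.ev_residue η hy O hR gO hr' _ (IsLocalRing.residue O)
  have hz : g' (g f * σ) = g' (g f) ^ (k + 1) * r' := by
    refine Subtype.ext ?_
    have h1 : ∀ a : R, ((g' a : O) : L) = algebraMap R L a := fun a => congr($hg' a)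
    push_cast
    rw [h1, h1, hrρ, map_mul, hσ]
    change gL f * _ = gL f ^ (k + 1) * ρ'
    ring
  let u : R →+* IsLocalRing.ResidueField O := (IsLocalRing.residue O).comp g'
  let j : Q.asIdeal.ResidueField →+* IsLocalRing.ResidueField O :=
    Ideal.ResidueField.lift _ u (by rw [ker_comp_residue, hc]) fun a ha =>
      isUnit_iff_ne_zero.mpr fun e => ha (by
        rw [← hc, ← ker_comp_residue]; exact e)
  have hj : ∀ a, j (algebraMap R _ a) = u a := fun a => Ideal.ResidueField.lift_algebraMap _ _ _ _ a
  apply (η.map j).injective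
  rw [eta_natural_apply, ← ev_comp, ← RingHom.comp_assoc,
    show j.comp (algebraMap R _) = u from RingHom.ext hj, hj,
    show u (g f * σ) = IsLocalRing.residue O (g' (g f * σ)) from rfl, hz, map_mul, map_pow, ev_t,
    show u.comp g = ((IsLocalRing.residue O).comp gO).comp (algebraMap A S) from
      RingHom.ext fun a => congrArg (IsLocalRing.residue O) congr($hgO a).symm,
    ← ev_Nmap, hx0, key, map_mul, map_pow, map_mul, map_pow]
  congr 3
  exact congrArg (IsLocalRing.residue O) congr($hgO f)

lemma exists_mem_rel_of_away (hA : (minimalPrimes A).Finite) (φ : A →+* B) (f : A)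
    {y : Localization.Away (φ f)} (hy : y ∈ η.rel (Localization.awayMap φ f)) :
    ∃ x ∈ η.rel φ, ∃ n : ℕ, y * algebraMap B (Localization.Away (φ f)) (φ f) ^ n =
      algebraMap B (Localization.Away (φ f)) x := by
  obtain ⟨x, hx, e⟩ := (mem_rel_iff η).mp hy
  obtain ⟨x', hx', n, hn⟩ := exists_mem_M_of_away η hA (Localization.Away f) f hx
  obtain ⟨⟨b, _, m, rfl⟩, hb⟩ := IsLocalization.surj (Submonoid.powers (φ f)) y
  have hsq : (Localization.awayMap φ f).comp (algebraMap A (Localization.Away f)) =
      (algebraMap B (Localization.Away (φ f))).comp φ := IsLocalization.map_comp _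
  have hd : η.Nmap (algebraMap B (Localization.Away (φ f)))
      (η.t B (b * φ f ^ n) - η.Nmap φ (x' * η.t A f ^ m)) = 0 := by
    rw [map_sub, sub_eq_zero, η.Nmap_t_apply, ← Nmap_comp, ← hsq, Nmap_comp,
      map_mul (η.Nmap (algebraMap A _)), map_pow (η.Nmap (algebraMap A _)), η.Nmap_t_apply,
      ← hn]
    simp only [map_mul, map_pow, e, η.Nmap_t_apply]
    rw [← hb]
    have h1 : Localization.awayMap φ f (algebraMap A (Localization.Away f) f) =
        algebraMap B (Localization.Away (φ f)) (φ f) := congr($hsq f)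
    rw [h1]
    simp only [map_mul, map_pow]
    ring
  refine ⟨b * φ f ^ (n + 1), (mem_rel_iff η).mpr ⟨x' * η.t A f ^ (m + 1),
    mul_mem hx' (pow_mem (η.t_mem_M A f) _), ?_⟩, m + n + 1, ?_⟩
  · have hz := t_mul_eq_zero_of_Nmap_eq_zero η _ (φ f) hd
    simp only [map_mul, map_pow, η.Nmap_t_apply, mul_sub, sub_eq_zero] at hz ⊢
    calc η.Nmap φ x' * η.t B (φ f) ^ (m + 1)
        = η.t B (φ f) * (η.Nmap φ x' * η.t B (φ f) ^ m) := by ring
      _ = η.t B (φ f) * (η.t B b * η.t B (φ f) ^ n) := hz.symm
      _ = η.t B b * η.t B (φ f) ^ (n + 1) := by ring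
  · rw [map_mul, map_pow, ← hb]
    change _ = y * algebraMap B (Localization.Away (φ f)) (φ f ^ m) * _
    rw [map_pow]
    ring

end Groth.Agent.EtaPt32
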