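import Groth.Prelude.Def_W4c1chowmix47Eta
import Mathlib.Algebra.CharP.Reduced
import Mathlib.Algebra.CharP.Algebra
import Mathlib.RingTheory.Ideal.MinimalPrime.Basic

/-!
# Pointwise construction attached to a field endofunctor: basic calculus

Maps `ev h : N A → F K` attached to a ring map `h : A → K` to a field.
-/

set_option autoImplicit false
universe u
open EtaPt

namespace Groth.Agent.EtaPt32

variable (η : FieldEndo.{u})

section Fields

variable {K L E : Type u} [Field K] [Field L] [Field E]

lemma eta_natural_apply (f : K →+* L) (x : K) : η.map f (η.eta K x) = η.eta L (f x) :=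
  congr($(η.eta_natural f) x)

lemma map_comp_apply (f : K →+* L) (g : L →+* E) (x : η.obj K) :
    η.map (g.comp f) x = η.map g (η.map f x) :=
  congr($(η.map_comp f g) x)

lemma map_id_apply (x : η.obj K) : η.map (RingHom.id K) x = x :=
  congr($(η.map_id K) x)

/-- Two maps out of `F K` into a field that agree on `K` are equal. -/
lemma hom_ext {f g : η.obj K →+* L} (h : f.comp (η.eta K) = g.comp (η.eta K)) : f = g := by
  ext x
  obtain ⟨n, a, ha⟩ := η.exists_pow_mem_range_eta K x
  have : ExpChar L (ringExpChar K) :=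
    expChar_of_injective_ringHom ((f.comp (η.eta K)).injective) _
  apply iterateFrobenius_inj L (ringExpChar K) n
  simp only [iterateFrobenius_def, ← map_pow, ← ha]
  exact congr($h a)

lemma eta_obj_eq : η.eta (η.obj K) = η.map (η.eta K) :=
  hom_ext η (η.eta_natural (η.eta K)).symm

variable (K) in
lemma bijective_eta_obj : Function.Bijective (η.eta (η.obj K)) := by
  rw [eta_obj_eq]; exact η.bijective_map_eta K

lemma bijective_map_of_ringEquiv (e : K ≃+* L) : Function.Bijective (η.map (e : K →+* L)) := by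
  refine ⟨RingHom.injective _, fun y => ⟨η.map (e.symm : L →+* K) y, ?_⟩⟩
  rw [← map_comp_apply, RingEquiv.comp_symm, map_id_apply]

lemma bijective_map_of_bijective (f : K →+* L) (hf : Function.Bijective f) :
    Function.Bijective (η.map f) :=
  bijective_map_of_ringEquiv η (RingEquiv.ofBijective f hf)

lemma bijective_eta_of_ringEquiv (e : K ≃+* L) (h : Function.Bijective (η.eta K)) :
    Function.Bijective (η.eta L) := by
  refine ⟨RingHom.injective _, fun y => ?_⟩
  obtain ⟨z, rfl⟩ := (bijective_map_of_ringEquiv η e).2 y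
  obtain ⟨a, rfl⟩ := h.2 z
  exact ⟨e a, (eta_natural_apply η (e : K →+* L) a).symm⟩

/-- `F f` is bijective once `η` factors through `f`. -/
lemma bijective_map_of_factor (f : K →+* L) (φ : L →+* η.obj K) (h : φ.comp f = η.eta K) :
    Function.Bijective (η.map f) := by
  refine ⟨RingHom.injective _, fun y => ?_⟩
  obtain ⟨z, hz⟩ := (η.bijective_map_eta K).2 (η.map φ y)
  refine ⟨z, (η.map φ).injective ?_⟩
  rw [← map_comp_apply, h, hz]

lemma exists_factor_of_bijective_map (f : K →+* L) (h : Function.Bijective (η.map f)) :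
    ∃ φ : L →+* η.obj K, φ.comp f = η.eta K := by
  refine ⟨((RingEquiv.ofBijective _ h).symm : η.obj L →+* η.obj K).comp (η.eta L), ?_⟩
  ext x
  apply h.1
  rw [eta_natural_apply]
  exact RingEquiv.apply_symm_apply (RingEquiv.ofBijective _ h) _

lemma map_factor_apply (f : K →+* L) (φ : L →+* η.obj K) (h : φ.comp f = η.eta K) (z : L) :
    η.map f (φ z) = η.eta L z := by
  apply (η.map φ).injective
  rw [← map_comp_apply, h, ← eta_obj_eq, eta_natural_apply]

lemma bijective_eta_of_ringExpChar_eq_one (h : ringExpChar K = 1) :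
    Function.Bijective (η.eta K) := by
  refine ⟨RingHom.injective _, fun y => ?_⟩
  obtain ⟨n, a, ha⟩ := η.exists_pow_mem_range_eta K y
  exact ⟨a, by rw [ha, h, one_pow, pow_one]⟩

lemma inV_iff (R : Type u) [CommRing R] [IsDomain R] [Algebra R L] [IsFractionRing R L] :
    η.InV R ↔ Function.Bijective (η.eta L) :=
  ⟨bijective_eta_of_ringEquiv η (FractionRing.algEquiv R L).toRingEquiv,
    bijective_eta_of_ringEquiv η (FractionRing.algEquiv R L).symm.toRingEquiv⟩

end Fields

section Eval

variable {A B C : Type u} [CommRing A] [CommRing B] [CommRing C]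
variable {K L : Type u} [Field K] [Field L]

/-- The point of the spectrum below a map to a field. -/
def kerPt (h : A →+* K) : PrimeSpectrum A := ⟨RingHom.ker h, RingHom.ker_isPrime h⟩

lemma primeCompl_kerPt_le (h : A →+* K) :
    (kerPt h).asIdeal.primeCompl ≤ (IsUnit.submonoid K).comap h :=
  fun _ ha => isUnit_iff_ne_zero.mpr ha

/-- The residue field at the point below `h` maps to the target of `h`. -/
noncomputable def liftPt (h : A →+* K) : (kerPt h).asIdeal.ResidueField →+* K :=
  Ideal.ResidueField.lift _ h (le_refl (RingHom.ker h)) (primeCompl_kerPt_le h)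

lemma liftPt_comp (h : A →+* K) : (liftPt h).comp (algebraMap A _) = h :=
  RingHom.ext fun a =>
    Ideal.ResidueField.lift_algebraMap (I := (kerPt h).asIdeal) h (le_refl (RingHom.ker h))
      (primeCompl_kerPt_le h) a

/-- Evaluation of `N A` at a field-valued point `h`. -/
noncomputable def ev (h : A →+* K) : η.N A →+* η.obj K :=
  (η.map (liftPt h)).comp
    (Pi.evalRingHom (fun p : PrimeSpectrum A => η.obj p.asIdeal.ResidueField) (kerPt h))

lemma ev_eq (h : A →+* K) (P : PrimeSpectrum A) (j : P.asIdeal.ResidueField →+* K)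
    (hj : j.comp (algebraMap A _) = h) (x : η.N A) : ev η h x = η.map j (x P) := by
  have key : ∀ (Q : PrimeSpectrum A) (j' : Q.asIdeal.ResidueField →+* K),
      j'.comp (algebraMap A _) = h → Q = P → η.map j' (x Q) = η.map j (x P) := by
    intro Q j' hj' e
    subst e
    rw [Ideal.ResidueField.ringHom_ext (hj'.trans hj.symm)]
  refine key (kerPt h) (liftPt h) (liftPt_comp h) (PrimeSpectrum.ext ?_)
  subst hj
  change RingHom.ker (j.comp (algebraMap A _)) = P.asIdeal
  rw [RingHom.ker_comp_of_injective _ j.injective, Ideal.ker_algebraMap_residueField]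

@[simp] lemma ev_res (P : PrimeSpectrum A) (x : η.N A) :
    ev η (algebraMap A P.asIdeal.ResidueField) x = x P := by
  rw [ev_eq η _ P (RingHom.id _) (RingHom.id_comp _), map_id_apply]

@[simp] lemma ev_t (h : A →+* K) (a : A) : ev η h (η.t A a) = η.eta K (h a) := by
  rw [ev_eq η h (kerPt h) (liftPt h) (liftPt_comp h)]
  change η.map _ (η.eta _ (algebraMap A _ a)) = _
  rw [eta_natural_apply]
  exact congrArg _ congr($(liftPt_comp h) a)

lemma ev_comp (u : K →+* L) (h : A →+* K) (x : η.N A) :
    ev η (u.comp h) x = η.map u (ev η h x) := by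
  rw [ev_eq η (u.comp h) (kerPt h) (u.comp (liftPt h))
    (by rw [RingHom.comp_assoc, liftPt_comp]), map_comp_apply]
  rfl

lemma Nmap_apply (f : A →+* B) (x : η.N A) (Q : PrimeSpectrum B) :
    η.Nmap f x Q =
      η.map (Ideal.ResidueField.map (PrimeSpectrum.comap f Q).asIdeal Q.asIdeal f rfl)
        (x (PrimeSpectrum.comap f Q)) := rfl

lemma Nmap_apply' (f : A →+* B) (x : η.N A) (Q : PrimeSpectrum B) (P : PrimeSpectrum A)
    (hP : P.asIdeal = Q.asIdeal.comap f) :
    η.Nmap f x Q = η.map (Ideal.ResidueField.map P.asIdeal Q.asIdeal f hP) (x P) := by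
  obtain rfl : P = PrimeSpectrum.comap f Q := PrimeSpectrum.ext hP
  rfl

lemma ev_Nmap (f : A →+* B) (h : B →+* K) (x : η.N A) :
    ev η h (η.Nmap f x) = ev η (h.comp f) x := by
  rw [ev_eq η h (kerPt h) (liftPt h) (liftPt_comp h), Nmap_apply, ← map_comp_apply]
  refine (ev_eq η _ _ _ ?_ x).symm
  ext a
  exact (congrArg (liftPt h) (Ideal.ResidueField.map_algebraMap _ _ f rfl a)).trans
    congr($(liftPt_comp h) (f a))

lemma Nmap_comp (f : A →+* B) (g : B →+* C) (x : η.N A) :
    η.Nmap (g.comp f) x = η.Nmap g (η.Nmap f x) := by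
  funext P
  rw [← ev_res η P (η.Nmap (g.comp f) x), ← ev_res η P (η.Nmap g (η.Nmap f x)), ev_Nmap, ev_Nmap,
    ev_Nmap, RingHom.comp_assoc]

lemma Nmap_t (f : A →+* B) : (η.Nmap f).comp (η.t A) = (η.t B).comp f :=
  RingHom.ext fun a => η.Nmap_t_apply f a

lemma t_apply (a : A) (P : PrimeSpectrum A) :
    η.t A a P = η.eta P.asIdeal.ResidueField (algebraMap A P.asIdeal.ResidueField a) := rfl

lemma t_apply_eq_zero_iff (a : A) (P : PrimeSpectrum A) : η.t A a P = 0 ↔ a ∈ P.asIdeal := by
  rw [t_apply, map_eq_zero, Ideal.algebraMap_residueField_eq_zero]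

lemma isNilpotent_of_t_eq_zero {a : A} (h : η.t A a = 0) : IsNilpotent a := by
  rw [nilpotent_iff_mem_prime]
  intro J hJ
  exact (t_apply_eq_zero_iff η a ⟨J, hJ⟩).mp (congrFun h _)

lemma t_injective [IsReduced A] : Function.Injective (η.t A) :=
  (injective_iff_map_eq_zero _).mpr fun _ ha => (isNilpotent_of_t_eq_zero η ha).eq_zero

lemma Nmap_injective (f : A →+* B) (hs : Function.Surjective (PrimeSpectrum.comap f)) :
    Function.Injective (η.Nmap f) := by
  intro x y h
  funext P
  obtain ⟨Q, rfl⟩ := hs P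
  exact (η.map (Ideal.ResidueField.map (PrimeSpectrum.comap f Q).asIdeal Q.asIdeal f rfl)).injective
    (congrFun h Q)

lemma Nmap_surjective (f : A →+* B) (hi : Function.Injective (PrimeSpectrum.comap f))
    (hb : ∀ Q : PrimeSpectrum B, Function.Surjective
      (η.map (Ideal.ResidueField.map (PrimeSpectrum.comap f Q).asIdeal Q.asIdeal f rfl))) :
    Function.Surjective (η.Nmap f) := by
  classical
  intro y
  have hb' : ∀ (P : PrimeSpectrum A) (Q : PrimeSpectrum B) (h : P.asIdeal = Q.asIdeal.comap f),
      Function.Surjective (η.map (Ideal.ResidueField.map P.asIdeal Q.asIdeal f h)) := by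
    intro P Q h
    obtain rfl : P = PrimeSpectrum.comap f Q := PrimeSpectrum.ext h
    exact hb Q
  let x : η.N A := fun P =>
    if h : ∃ Q, PrimeSpectrum.comap f Q = P then
      (hb' P h.choose (congrArg PrimeSpectrum.asIdeal h.choose_spec).symm (y h.choose)).choose
    else 0
  refine ⟨x, funext fun Q => ?_⟩
  have h : ∃ Q', PrimeSpectrum.comap f Q' = PrimeSpectrum.comap f Q := ⟨Q, rfl⟩
  have key : ∀ Q', Q' = Q → η.Nmap f x Q' = y Q' → η.Nmap f x Q = y Q := by
    rintro _ rfl e; exact e
  refine key h.choose (hi h.choose_spec) ?_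
  rw [Nmap_apply' η f x h.choose (PrimeSpectrum.comap f Q)
    (congrArg PrimeSpectrum.asIdeal h.choose_spec).symm]
  simp only [x, dif_pos h]
  exact (hb' _ _ _ _).choose_spec

lemma Nmap_bijective (f : A →+* B) (hc : Function.Bijective (PrimeSpectrum.comap f))
    (hb : ∀ Q : PrimeSpectrum B, Function.Surjective
      (η.map (Ideal.ResidueField.map (PrimeSpectrum.comap f Q).asIdeal Q.asIdeal f rfl))) :
    Function.Bijective (η.Nmap f) :=
  ⟨Nmap_injective η f hc.2, Nmap_surjective η f hc.1 hb⟩

lemma comap_surjective_of_Nmap_injective (f : A →+* B) (h : Function.Injective (η.Nmap f)) :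
    Function.Surjective (PrimeSpectrum.comap f) := by
  classical
  intro P
  by_contra hP
  push Not at hP
  let x : η.N A := Pi.single P 1
  have h0 : η.Nmap f x = 0 := by
    funext Q
    rw [Nmap_apply, show x (PrimeSpectrum.comap f Q) = 0 from Pi.single_eq_of_ne (hP Q) _,
      map_zero]
    rfl
  have := congrFun (h (h0.trans (map_zero _).symm)) P
  simp [x] at this

lemma comap_injective_of_Nmap_surjective (f : A →+* B) (h : Function.Surjective (η.Nmap f)) :
    Function.Injective (PrimeSpectrum.comap f) := by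
  classical
  intro Q Q' e
  by_contra hne
  obtain ⟨x, hx⟩ := h (Pi.single Q 1)
  have h1 := congrFun hx Q
  rw [Pi.single_eq_same, Nmap_apply] at h1
  have h2 := congrFun hx Q'
  rw [Pi.single_eq_of_ne (Ne.symm hne), Nmap_apply' η f x Q' (PrimeSpectrum.comap f Q)
    (congrArg PrimeSpectrum.asIdeal e), map_eq_zero] at h2
  rw [h2, map_zero] at h1
  exact zero_ne_one h1

lemma map_bijective_of_Nmap_surjective (f : A →+* B) (h : Function.Surjective (η.Nmap f))
    (Q : PrimeSpectrum B) : Function.Bijective
      (η.map (Ideal.ResidueField.map (PrimeSpectrum.comap f Q).asIdeal Q.asIdeal f rfl)) := by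
  classical
  refine ⟨RingHom.injective _, fun y => ?_⟩
  obtain ⟨x, hx⟩ := h (Pi.single Q y)
  refine ⟨x (PrimeSpectrum.comap f Q), ?_⟩
  have := congrFun hx Q
  rwa [Nmap_apply, Pi.single_eq_same] at this

end Eval

end Groth.Agent.EtaPt32
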