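import Groth.Agent.EtaPt32.Rel
import Groth.Prelude.Def_HTop2
import Mathlib.AlgebraicGeometry.Morphisms.Integral
import Mathlib.AlgebraicGeometry.Morphisms.UniversallyInjective

/-!
# Universal homeomorphisms of affine schemes with trivial residue field extensions
-/

set_option autoImplicit false
universe u
open EtaPt CategoryTheory AlgebraicGeometry

namespace Groth.Agent.EtaPt32

variable {A C : Type u} [CommRing A] [CommRing C]

lemma isPurelyInseparable_of_surjective {F E : Type u} [CommRing F] [CommRing E] {f : F →+* E}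
    (hf : Function.Surjective f) : f.IsPurelyInseparable := by
  let _ : Algebra F E := f.toAlgebra
  exact ⟨⟨fun x => by obtain ⟨a, rfl⟩ := hf x; exact isIntegral_algebraMap⟩, fun x _ => hf x⟩

lemma residueFieldMap_eq (φ : A →+* C) (x : Spec (CommRingCat.of C)) :
    (Spec.map (CommRingCat.ofHom φ)).residueFieldMap x ≫ (Scheme.Spec.residueFieldIso _ x).hom =
      (Scheme.Spec.residueFieldIso (CommRingCat.of A) (Spec.map (CommRingCat.ofHom φ) x)).hom ≫
        CommRingCat.ofHom (Ideal.ResidueField.map (PrimeSpectrum.comap φ x).asIdeal x.asIdeal φ rfl) := by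
  rw [← cancel_epi (Scheme.Spec.residueFieldIso (CommRingCat.of A)
    (Spec.map (CommRingCat.ofHom φ) x)).inv, Iso.inv_hom_id_assoc]
  refine CommRingCat.hom_ext (Ideal.ResidueField.ringHom_ext ?_)
  have h : CommRingCat.ofHom (algebraMap A _) ≫
      ((Scheme.Spec.residueFieldIso (CommRingCat.of A) (Spec.map (CommRingCat.ofHom φ) x)).inv ≫
        (Spec.map (CommRingCat.ofHom φ)).residueFieldMap x ≫
          (Scheme.Spec.residueFieldIso _ x).hom) =
      CommRingCat.ofHom φ ≫ CommRingCat.ofHom (algebraMap C _) := by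
    erw [Scheme.Spec.algebraMap_residueFieldIso_inv_assoc (CommRingCat.of A)]
    rw [Scheme.residue_residueFieldMap_assoc, Scheme.Hom.germ_stalkMap_assoc]
    erw [← Scheme.ΓSpecIso_inv_naturality_assoc (CommRingCat.ofHom φ)]
    erw [← Scheme.Spec.algebraMap_residueFieldIso_inv_assoc (CommRingCat.of C) x]
    rw [Iso.inv_hom_id]
    rfl
  exact (congrArg CommRingCat.Hom.hom h).trans
    (RingHom.ext fun a => (Ideal.ResidueField.map_algebraMap _ _ φ rfl a).symm)

lemma residueFieldsIso_iff (φ : A →+* C) :
    HTop.ResidueFieldsIso (Spec.map (CommRingCat.ofHom φ)) ↔ ∀ Q : PrimeSpectrum C,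
      Function.Bijective
        (Ideal.ResidueField.map (PrimeSpectrum.comap φ Q).asIdeal Q.asIdeal φ rfl) := by
  refine forall_congr' fun x => ?_
  rw [ConcreteCategory.isIso_iff_bijective]
  have key := congrArg (fun m => ⇑(CommRingCat.Hom.hom m)) (residueFieldMap_eq φ x)
  have h1 := ConcreteCategory.bijective_of_isIso (Scheme.Spec.residueFieldIso (CommRingCat.of C) x).hom
  have h2 := ConcreteCategory.bijective_of_isIso
    (Scheme.Spec.residueFieldIso (CommRingCat.of A) (Spec.map (CommRingCat.ofHom φ) x)).hom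
  simp only [CommRingCat.hom_comp, RingHom.coe_comp] at key
  constructor
  · intro h
    have := h1.comp h
    exact (Function.Bijective.of_comp_iff _ h2).mp (key ▸ this)
  · intro h
    have := h.comp h2
    exact (Function.Bijective.of_comp_iff' h1 _).mp (key ▸ this)

lemma isUnivHomeo_of (φ : A →+* C) (hint : φ.IsIntegral)
    (hb : Function.Bijective (PrimeSpectrum.comap φ))
    (hr : ∀ Q : PrimeSpectrum C,
      (Ideal.ResidueField.map (PrimeSpectrum.comap φ Q).asIdeal Q.asIdeal φ rfl).IsPurelyInseparable) :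
    FlatMor.IsUnivHomeo (Spec.map (CommRingCat.ofHom φ)) := by
  have h1 : IsIntegralHom (Spec.map (CommRingCat.ofHom φ)) := IsIntegralHom.SpecMap_iff.mpr hint
  have h2 : Surjective (Spec.map (CommRingCat.ofHom φ)) := ⟨hb.2⟩
  have h3 : UniversallyInjective (Spec.map (CommRingCat.ofHom φ)) := by
    have hh : UniversallyInjective (Spec.map (CommRingCat.ofHom φ)) ↔ _ ∧ _ :=
      (tfae_universallyInjective (Spec.map (CommRingCat.ofHom φ))).out 0 2
    refine hh.mpr ⟨hb.1, fun x => ?_⟩
    have e : (Spec.map (CommRingCat.ofHom φ)).residueFieldMap x =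
        (Scheme.Spec.residueFieldIso _ _).hom ≫
          CommRingCat.ofHom (Ideal.ResidueField.map (PrimeSpectrum.comap φ x).asIdeal x.asIdeal φ rfl) ≫
            (Scheme.Spec.residueFieldIso _ x).inv := by
      rw [← Category.assoc, ← residueFieldMap_eq, Category.assoc, Iso.hom_inv_id, Category.comp_id]
    rw [e, CommRingCat.hom_comp, CommRingCat.hom_comp, CommRingCat.hom_ofHom]
    exact RingHom.IsPurelyInseparable.comp
      (isPurelyInseparable_of_surjective (ConcreteCategory.bijective_of_isIso
        (Scheme.Spec.residueFieldIso (CommRingCat.of A) (Spec.map (CommRingCat.ofHom φ) x)).hom).2)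
      (RingHom.IsPurelyInseparable.comp (hr x)
        (isPurelyInseparable_of_surjective (ConcreteCategory.bijective_of_isIso
          (Scheme.Spec.residueFieldIso (CommRingCat.of C) x).inv).2))
  intro X' Y' i₁ i₂ f' H
  have : IsIntegralHom f' := MorphismProperty.of_isPullback (P := @IsIntegralHom) H.flip h1
  have : Surjective f' := MorphismProperty.of_isPullback (P := @Surjective) H.flip h2
  have : UniversallyInjective f' :=
    MorphismProperty.of_isPullback (P := @UniversallyInjective) H.flip h3
  have hc : IsClosedMap f' := f'.isClosedMap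
  exact isHomeomorph_iff_continuous_isClosedMap_bijective.mpr
    ⟨f'.continuous, hc, f'.injective, f'.surjective⟩

lemma isIntegral_of_isUnivHomeo (φ : A →+* C)
    (h : FlatMor.IsUnivHomeo (Spec.map (CommRingCat.ofHom φ))) : φ.IsIntegral := by
  refine IsIntegralHom.SpecMap_iff.mp
    ((IsIntegralHom.iff_universallyClosed_and_isAffineHom (f := Spec.map (CommRingCat.ofHom φ))).mpr
      ⟨⟨?_⟩, inferInstance⟩)
  exact MorphismProperty.universally_mono (fun _ _ _ h => h.isClosedMap) _ h

lemma bijective_comap_of_isUnivHomeo (φ : A →+* C)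
    (h : FlatMor.IsUnivHomeo (Spec.map (CommRingCat.ofHom φ))) :
    Function.Bijective (PrimeSpectrum.comap φ) :=
  (MorphismProperty.universally_le _ _ h).bijective

lemma bijective_Nmap_of_isUnivHomeo (η : FieldEndo.{u}) (φ : A →+* C)
    (h : FlatMor.IsUnivHomeo (Spec.map (CommRingCat.ofHom φ)))
    (hr : HTop.ResidueFieldsIso (Spec.map (CommRingCat.ofHom φ))) :
    Function.Bijective (η.Nmap φ) :=
  Nmap_bijective η φ (bijective_comap_of_isUnivHomeo φ h) fun Q =>
    (bijective_map_of_bijective η _ ((residueFieldsIso_iff φ).mp hr Q)).2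

lemma bijective_residueMap_of_factor_ident {φ : A →+* C} {Q : PrimeSpectrum C}
    (h : Factor FieldEndo.ident.{u} φ Q) : Function.Bijective
      (Ideal.ResidueField.map (PrimeSpectrum.comap φ Q).asIdeal Q.asIdeal φ rfl) :=
  h.bijective_map FieldEndo.ident

lemma isUnivHomeo_and_residueFieldsIso {φ : A →+* C} (hint : φ.IsIntegral)
    (hb : Function.Bijective (PrimeSpectrum.comap φ))
    (hf : ∀ Q, Factor FieldEndo.ident.{u} φ Q) :
    FlatMor.IsUnivHomeo (Spec.map (CommRingCat.ofHom φ)) ∧
      HTop.ResidueFieldsIso (Spec.map (CommRingCat.ofHom φ)) :=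
  ⟨isUnivHomeo_of φ hint hb fun Q =>
      isPurelyInseparable_of_surjective (bijective_residueMap_of_factor_ident (hf Q)).2,
    (residueFieldsIso_iff φ).mpr fun Q => bijective_residueMap_of_factor_ident (hf Q)⟩

end Groth.Agent.EtaPt32
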