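import Groth.Agent.EtaPt32.Basic
import Mathlib.RingTheory.Valuation.LocalSubring
import Mathlib.RingTheory.IntegralClosure.IntegrallyClosed
import Mathlib.RingTheory.IntegralClosure.IntegralRestrict
import Mathlib.RingTheory.Valuation.ValuationRing
import Mathlib.RingTheory.Valuation.Integral

/-!
# Membership in the pointwise ring `M A`

Valuation subrings dominating a given prime and what membership in `M A` says on them.
-/

set_option autoImplicit false
universe u
open EtaPt

namespace Groth.Agent.EtaPt32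

variable (η : FieldEndo.{u})
variable {A B : Type u} [CommRing A] [CommRing B] {K L : Type u} [Field K] [Field L]

/-- A valuation subring of the target with prescribed centre. -/
lemma exists_valuationSubring_center (h : A →+* L) (P : Ideal A) [P.IsPrime]
    (hP : RingHom.ker h ≤ P) :
    ∃ (O : ValuationSubring L) (g : A →+* O), (O.subtype).comp g = h ∧
      (IsLocalRing.maximalIdeal O).comap g = P := by
  have hu : ∀ s : P.primeCompl, IsUnit (h s) := fun s =>
    isUnit_iff_ne_zero.mpr fun e => s.2 (hP e)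
  let hP' : Localization.AtPrime P →+* L := IsLocalization.lift hu
  obtain ⟨O, hO, hloc⟩ := IsLocalRing.exists_factor_valuationRing hP'
  let g' : Localization.AtPrime P →+* O := hP'.codRestrict O.toSubring hO
  have : IsLocalHom g' := hloc
  refine ⟨O, g'.comp (algebraMap A _), RingHom.ext fun a => IsLocalization.lift_eq hu a, ?_⟩
  rw [← Ideal.comap_comap, IsLocalRing.maximalIdeal_comap g']
  exact Localization.AtPrime.under_maximalIdeal

lemma inV_valuationSubring (O : ValuationSubring L) (hL : Function.Bijective (η.eta L)) :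
    η.InV O :=
  (inV_iff η O).mpr hL

lemma ker_comp_residue {R : Type u} [CommRing R] [IsLocalRing R] (g : A →+* R) :
    RingHom.ker ((IsLocalRing.residue R).comp g) = (IsLocalRing.maximalIdeal R).comap g := by
  rw [← RingHom.comap_ker, IsLocalRing.ker_residue]

/-- What an element of `M A` gives along a map to a valuation ring in `V_η`. -/
lemma mem_M.exists_eq {x : η.N A} (hx : x ∈ η.M A) {R : Type u} [CommRing R] [IsDomain R]
    [ValuationRing R] (hR : η.InV R) (g : A →+* R) :
    ∃ r : R, ∀ (K : Type u) [Field K] (u : R →+* K), ev η (u.comp g) x = η.eta K (u r) := by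
  obtain ⟨r, hr⟩ := hx R hR g
  exact ⟨r, fun K _ u => by rw [← ev_Nmap, ← hr, ev_t]⟩

lemma mem_M_of_residue {x : η.N A}
    (H : ∀ (R : Type u) [CommRing R] [IsDomain R] [ValuationRing R], η.InV R →
      ∀ g : A →+* R, ∃ r : R, ∀ P : PrimeSpectrum R,
        ev η ((algebraMap R P.asIdeal.ResidueField).comp g) x =
          η.eta _ (algebraMap R P.asIdeal.ResidueField r)) :
    x ∈ η.M A := by
  intro R _ _ _ hR g
  obtain ⟨r, hr⟩ := H R hR g
  exact ⟨r, funext fun P => by rw [← ev_res η P (η.Nmap g x), ev_Nmap, hr P]; rfl⟩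

lemma mem_M_of_forall {x : η.N A}
    (H : ∀ (R : Type u) [CommRing R] [IsDomain R] [ValuationRing R], η.InV R →
      ∀ g : A →+* R, ∃ r : R, ∀ (K : Type u) [Field K] (u : R →+* K),
        ev η (u.comp g) x = η.eta K (u r)) :
    x ∈ η.M A :=
  mem_M_of_residue η fun R _ _ _ hR g => (H R hR g).imp fun _ hr _ => hr _ _

lemma Nmap_mem_M (f : A →+* B) {x : η.N A} (hx : x ∈ η.M A) : η.Nmap f x ∈ η.M B := by
  intro R _ _ _ hR g
  rw [← Nmap_comp]
  exact hx R hR _

/-- On a valuation subring of an `η`-closed field, the value is the value at the field. -/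
lemma mem_M.ev_residue {x : η.N A} (hx : x ∈ η.M A) (O : ValuationSubring L)
    (hL : Function.Bijective (η.eta L)) (g : A →+* O) {r : O}
    (hr : η.eta L r = ev η (O.subtype.comp g) x) (K : Type u) [Field K] (u : O →+* K) :
    ev η (u.comp g) x = η.eta K (u r) := by
  obtain ⟨r', hr'⟩ := mem_M.exists_eq η hx (inV_valuationSubring η O hL) g
  obtain rfl : r' = r := Subtype.ext (hL.1 ((hr' L O.subtype).symm.trans hr.symm))
  exact hr' K u

lemma mem_M.exists_valuationSubring {x : η.N A} (hx : x ∈ η.M A) (O : ValuationSubring L)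
    (hL : Function.Bijective (η.eta L)) (g : A →+* O) :
    ∃ r : O, η.eta L r = ev η (O.subtype.comp g) x := by
  obtain ⟨r', hr'⟩ := mem_M.exists_eq η hx (inV_valuationSubring η O hL) g
  exact ⟨r', (hr' L O.subtype).symm⟩

/-- An element of `M A` vanishing at a point vanishes at all its specialisations. -/
lemma mem_M.apply_eq_zero_of_ev {x : η.N A} (hx : x ∈ η.M A) (h : A →+* K)
    (h0 : ev η h x = 0) (P : PrimeSpectrum A) (hP : RingHom.ker h ≤ P.asIdeal) : x P = 0 := by
  let L := η.obj K
  let h' : A →+* L := (η.eta K).comp h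
  have hk : RingHom.ker h' ≤ P.asIdeal := by
    rwa [RingHom.ker_comp_of_injective _ (η.eta K).injective]
  obtain ⟨O, g, hg, hc⟩ := exists_valuationSubring_center h' P.asIdeal hk
  have hr : η.eta L ((0 : O) : L) = ev η (O.subtype.comp g) x := by
    rw [hg, ev_comp, h0]; simp
  have h1 := mem_M.ev_residue η hx O (bijective_eta_obj η K) g hr _ (IsLocalRing.residue O)
  rw [map_zero, map_zero] at h1
  have e : P = kerPt ((IsLocalRing.residue O).comp g) :=
    PrimeSpectrum.ext (((ker_comp_residue g).trans hc).symm)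
  subst e
  rw [ev_eq η _ (kerPt _) (liftPt _) (liftPt_comp _)] at h1
  exact (map_eq_zero _).mp h1

lemma mem_M.apply_eq_zero_of_le {x : η.N A} (hx : x ∈ η.M A) (p P : PrimeSpectrum A)
    (hle : p ≤ P) (h0 : x p = 0) : x P = 0 :=
  mem_M.apply_eq_zero_of_ev η hx (algebraMap A p.asIdeal.ResidueField) (by rw [ev_res, h0]) P
    (by rw [Ideal.ker_algebraMap_residueField]; exact hle)

/-- An element of `M A` is determined by its values at the minimal primes. -/
lemma mem_M.eq_zero {x : η.N A} (hx : x ∈ η.M A)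
    (h : ∀ p : PrimeSpectrum A, p.asIdeal ∈ minimalPrimes A → x p = 0) : x = 0 := by
  funext P
  obtain ⟨p, hp, hle⟩ := Ideal.exists_minimalPrimes_le (bot_le : (⊥ : Ideal A) ≤ P.asIdeal)
  exact mem_M.apply_eq_zero_of_le η hx ⟨p, hp.1.1⟩ P hle (h ⟨p, hp.1.1⟩ hp)

lemma mem_M.ext_minimal {x y : η.N A} (hx : x ∈ η.M A) (hy : y ∈ η.M A)
    (h : ∀ p : PrimeSpectrum A, p.asIdeal ∈ minimalPrimes A → x p = y p) : x = y :=
  sub_eq_zero.mp (mem_M.eq_zero η (sub_mem hx hy) fun p hp => sub_eq_zero.mpr (h p hp))

/-- The values of an element of `M A` are integral over `A`. -/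
lemma mem_M.isIntegralElem_ev {x : η.N A} (hx : x ∈ η.M A) (h : A →+* K) :
    ((η.eta K).comp h).IsIntegralElem (ev η h x) := by
  let L := η.obj K
  let : Algebra A L := ((η.eta K).comp h).toAlgebra
  change IsIntegral A (ev η h x)
  by_contra hni
  let R : Subring L := (integralClosure A L).toSubring
  have : IsIntegrallyClosedIn R L :=
    inferInstanceAs (IsIntegrallyClosedIn (integralClosure A L).toSubring L)
  obtain ⟨O, hO, hnot⟩ := Subring.exists_le_valuationSubring_of_isIntegrallyClosedIn
    (R := R) (x := ev η h x) hni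
  let g : A →+* O := (algebraMap A L).codRestrict O.toSubring
    fun a => hO ((integralClosure A L).algebraMap_mem a)
  obtain ⟨r, hr⟩ := mem_M.exists_valuationSubring η hx O (bijective_eta_obj η K) g
  apply hnot
  have : (r : L) = ev η h x := by
    apply (η.eta L).injective
    rw [hr, eta_obj_eq, ← ev_comp]
    rfl
  exact this ▸ r.2

lemma mem_M.isIntegralElem_apply {x : η.N A} (hx : x ∈ η.M A) (P : PrimeSpectrum A) :
    ((η.eta P.asIdeal.ResidueField).comp (algebraMap A _)).IsIntegralElem (x P) := by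
  simpa using mem_M.isIntegralElem_ev η hx (algebraMap A P.asIdeal.ResidueField)

/-- `q` is integral when there are finitely many minimal primes. -/
theorem isIntegral_q (hA : (minimalPrimes A).Finite) : (η.q A).IsIntegral := by
  classical
  intro x
  choose p hmonic hzero using fun P : PrimeSpectrum A => mem_M.isIntegralElem_apply η x.2 P
  have hfin : {P : PrimeSpectrum A | P.asIdeal ∈ minimalPrimes A}.Finite :=
    hA.preimage fun a _ b _ e => PrimeSpectrum.ext e
  refine ⟨∏ P ∈ hfin.toFinset, p P, Polynomial.monic_prod_of_monic _ _ fun P _ => hmonic P, ?_⟩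
  apply Subtype.ext
  refine mem_M.eq_zero η (SetLike.coe_mem _) fun P hP => ?_
  rw [Polynomial.eval₂_finsetProd]
  let e : η.M A →+* η.obj P.asIdeal.ResidueField :=
    (Pi.evalRingHom _ P).comp (η.M A).subtype
  change e (∏ Q ∈ hfin.toFinset, Polynomial.eval₂ (η.q A) x (p Q)) = 0
  rw [map_prod]
  refine Finset.prod_eq_zero (i := P) (hfin.mem_toFinset.mpr hP) ?_
  rw [Polynomial.hom_eval₂]
  exact hzero P

lemma isIntegrallyClosed_of_valuationRing (R : Type u) [CommRing R] [IsDomain R]
    [ValuationRing R] : IsIntegrallyClosed R :=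
  IsIntegrallyClosed.of_equiv (ValuationRing.equivInteger R (FractionRing R)).symm

/-- Elements with a `p`-power in `M A`, in characteristic `p`, lie in `M A`. -/
lemma mem_M_of_pow_mem {x : η.N A} (p : ℕ) [hp : Fact p.Prime] (hpA : (p : A) = 0) (n : ℕ)
    (hx : x ^ p ^ n ∈ η.M A) : x ∈ η.M A := by
  refine mem_M_of_forall η fun R _ _ _ hR g => ?_
  obtain ⟨r0, hr0⟩ := mem_M.exists_eq η hx hR g
  let L := FractionRing R
  obtain ⟨ρ, hρ⟩ := hR.2 (ev η ((algebraMap R L).comp g) x)
  have hρn : ρ ^ p ^ n = algebraMap R L r0 := by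
    apply hR.1
    rw [map_pow, hρ, ← map_pow, hr0]
  have := isIntegrallyClosed_of_valuationRing R
  obtain ⟨r, rfl⟩ := IsIntegrallyClosed.exists_algebraMap_eq_of_isIntegral_pow
    (R := R) (pow_pos hp.out.pos n) (hρn ▸ isIntegral_algebraMap : IsIntegral R (ρ ^ p ^ n))
  have hr : r ^ p ^ n = r0 := IsFractionRing.injective R L (by rw [map_pow, hρn])
  refine ⟨r, fun K _ u => ?_⟩
  have : CharP (η.obj K) p := by
    refine CharP.charP_iff_prime_eq_zero hp.out |>.mpr ?_
    rw [← map_natCast ((η.eta K).comp (u.comp g)), hpA, map_zero]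
  apply iterateFrobenius_inj (η.obj K) p n
  simp only [iterateFrobenius_def]
  rw [← map_pow, hr0, ← hr, map_pow, map_pow]

end Groth.Agent.EtaPt32
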