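import Groth.Agent.EtaPt32.Spec

/-!
# The relative pointwise ring `rel f`
-/

set_option autoImplicit false
universe u
open EtaPt

namespace Groth.Agent.EtaPt32

variable (η : FieldEndo.{u})
variable {A A' B B' C : Type u} [CommRing A] [CommRing A'] [CommRing B] [CommRing B'] [CommRing C]

lemma mem_rel_iff {f : A →+* B} {b : B} :
    b ∈ η.rel f ↔ ∃ x ∈ η.M A, η.Nmap f x = η.t B b := Iff.rfl

lemma map_mem_rel_of_square {j : A →+* B} {f : A →+* A'} {g : B →+* B'} {j' : A' →+* B'}
    (hcomm : j'.comp f = g.comp j) {b : B} (hb : b ∈ η.rel j) : g b ∈ η.rel j' := by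
  obtain ⟨x, hx, e⟩ := (mem_rel_iff η).mp hb
  refine (mem_rel_iff η).mpr ⟨η.Nmap f x, Nmap_mem_M η f hx, ?_⟩
  rw [← Nmap_comp, hcomm, Nmap_comp, e, η.Nmap_t_apply]

lemma injective_qRel_iff (f : A →+* B) : Function.Injective (η.qRel f) ↔ Function.Injective f :=
  ⟨fun h _ _ e => h (Subtype.ext e), fun h _ _ e => h (congrArg Subtype.val e)⟩

lemma bijective_qRel_iff (f : A →+* B) :
    Function.Bijective (η.qRel f) ↔ Function.Injective f ∧ ∀ b ∈ η.rel f, b ∈ f.range := by
  refine and_congr (injective_qRel_iff η f) ⟨fun h b hb => ?_, fun h b => ?_⟩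
  · obtain ⟨a, ha⟩ := h ⟨b, hb⟩
    exact ⟨a, congrArg Subtype.val ha⟩
  · obtain ⟨a, ha⟩ := h b b.2
    exact ⟨a, Subtype.ext ha⟩

section Theta

variable (f : A →+* B) (hs : Function.Surjective (PrimeSpectrum.comap f))

/-- For `Spec f` surjective, `rel f` maps to `M A`. -/
noncomputable def theta : η.rel f →+* η.M A where
  toFun b := ⟨b.2.choose, b.2.choose_spec.1⟩
  map_one' := Subtype.ext <| Nmap_injective η f hs <| by
    refine (1 : η.rel f).2.choose_spec.2.trans ?_
    simp
  map_zero' := Subtype.ext <| Nmap_injective η f hs <| by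
    refine (0 : η.rel f).2.choose_spec.2.trans ?_
    simp
  map_mul' a b := Subtype.ext <| Nmap_injective η f hs <| by
    refine (a * b).2.choose_spec.2.trans ?_
    simp only [MulMemClass.coe_mul, map_mul]
    exact congrArg₂ (· * ·) a.2.choose_spec.2.symm b.2.choose_spec.2.symm
  map_add' a b := Subtype.ext <| Nmap_injective η f hs <| by
    refine (a + b).2.choose_spec.2.trans ?_
    simp only [AddMemClass.coe_add, map_add]
    exact congrArg₂ (· + ·) a.2.choose_spec.2.symm b.2.choose_spec.2.symm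

lemma Nmap_theta (b : η.rel f) : η.Nmap f (theta η f hs b : η.N A) = η.t B (b : B) :=
  b.2.choose_spec.2

lemma theta_comp_qRel : (theta η f hs).comp (η.qRel f) = η.q A :=
  RingHom.ext fun a => Subtype.ext <| Nmap_injective η f hs <| by
    rw [RingHom.comp_apply, Nmap_theta]
    exact (η.Nmap_t_apply f a).symm

lemma ker_theta_le : RingHom.ker (theta η f hs) ≤ nilradical (η.rel f) := by
  intro b hb
  have h0 : η.t B (b : B) = 0 := by
    rw [← Nmap_theta η f hs b, show theta η f hs b = 0 from hb]; simp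
  exact IsNilpotent.map_iff (f := (η.rel f).subtype) Subtype.val_injective |>.mp
    (isNilpotent_of_t_eq_zero η h0)

include hs in
lemma isIntegral_qRel (hA : (minimalPrimes A).Finite) : (η.qRel f).IsIntegral := by
  intro b
  obtain ⟨p, hp, hp0⟩ := isIntegral_q η hA (theta η f hs b)
  have h1 : theta η f hs (Polynomial.eval₂ (η.qRel f) b p) = 0 := by
    rw [Polynomial.hom_eval₂, theta_comp_qRel, hp0]
  obtain ⟨k, hk⟩ := ker_theta_le η f hs h1
  exact ⟨p ^ k, hp.pow k, by rw [Polynomial.eval₂_pow, hk]⟩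

include hs in
lemma bijective_comap_qRel (hA : (minimalPrimes A).Finite) :
    Function.Bijective (PrimeSpectrum.comap (η.qRel f)) ∧ ∀ Q, Factor η (η.qRel f) Q := by
  have hq : (theta η f hs).IsIntegral := by
    refine RingHom.IsIntegral.tower_top (η.qRel f) _ ?_
    rw [theta_comp_qRel]; exact isIntegral_q η hA
  have hsurj : Function.Surjective (PrimeSpectrum.comap (theta η f hs)) := by
    intro P
    algebraize [theta η f hs]
    obtain ⟨Q, -, hQ, hPQ⟩ := Ideal.exists_ideal_over_prime_of_isIntegral P.asIdeal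
      (⊥ : Ideal (η.M A)) ((ker_theta_le η f hs).trans (nilradical_le_prime _))
    exact ⟨⟨Q, hQ⟩, PrimeSpectrum.ext hPQ⟩
  have hb : Function.Bijective
      (PrimeSpectrum.comap (η.qRel f) ∘ PrimeSpectrum.comap (theta η f hs)) := by
    rw [← PrimeSpectrum.comap_comp, theta_comp_qRel]
    exact bijective_comap_q η hA
  refine ⟨⟨hb.1.of_comp_right hsurj, hb.2.of_comp⟩, fun Q => ?_⟩
  obtain ⟨Q', rfl⟩ := hsurj Q
  refine Factor.comp_left η ?_
  rw [theta_comp_qRel]
  exact factor_q η hA Q'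

include hs in
lemma bijective_Nmap_qRel (hA : (minimalPrimes A).Finite) :
    Function.Bijective (η.Nmap (η.qRel f)) :=
  (bijective_Nmap_iff_factor η _).mpr (bijective_comap_qRel η f hs hA)

include hs in
lemma isIntegralElem_of_mem_rel (hA : (minimalPrimes A).Finite) {b : B} (hb : b ∈ η.rel f) :
    f.IsIntegralElem b := by
  obtain ⟨p, hp, hp0⟩ := isIntegral_qRel η f hs hA ⟨b, hb⟩
  refine ⟨p, hp, ?_⟩
  have := congrArg (η.rel f).subtype hp0
  rwa [Polynomial.hom_eval₂, map_zero] at this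

end Theta

lemma range_le_rel (f₁ : A →+* B') (f₂ : B' →+* B) (h₁ : f₁.IsIntegral)
    (hN : Function.Bijective (η.Nmap f₁)) : f₂.range ≤ η.rel (f₂.comp f₁) := by
  rintro _ ⟨b, rfl⟩
  obtain ⟨x, hx, e⟩ := (bijOn_Nmap_M η f₁ h₁ hN).surjOn (η.t_mem_M B' b)
  exact (mem_rel_iff η).mpr ⟨x, hx, by rw [Nmap_comp, e, η.Nmap_t_apply]⟩

end Groth.Agent.EtaPt32
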