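import Groth.Agent.EtaPt32.MRing
import Mathlib.RingTheory.Ideal.GoingUp

/-!
# Spectrum of the pointwise ring and integral maps inducing a bijection on `N`
-/

set_option autoImplicit false
universe u
open EtaPt

namespace Groth.Agent.EtaPt32

variable (η : FieldEndo.{u})
variable {A B C : Type u} [CommRing A] [CommRing B] [CommRing C]

/-- `η` at the point below `Q` factors through the residue field map of `f` at `Q`. -/
def Factor (f : A →+* B) (Q : PrimeSpectrum B) : Prop :=
  ∃ φ : Q.asIdeal.ResidueField →+* η.obj (PrimeSpectrum.comap f Q).asIdeal.ResidueField,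
    φ.comp (Ideal.ResidueField.map (PrimeSpectrum.comap f Q).asIdeal Q.asIdeal f rfl) =
      η.eta (PrimeSpectrum.comap f Q).asIdeal.ResidueField

lemma Factor.mk' {f : A →+* B} {Q : PrimeSpectrum B}
    (φ : Q.asIdeal.ResidueField →+* η.obj (PrimeSpectrum.comap f Q).asIdeal.ResidueField)
    (h : ∀ a : A, φ (algebraMap B _ (f a)) = η.eta _ (algebraMap A _ a)) : Factor η f Q :=
  ⟨φ, Ideal.ResidueField.ringHom_ext <| RingHom.ext fun a =>
    (congrArg φ (Ideal.ResidueField.map_algebraMap _ _ f rfl a)).trans (h a)⟩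

lemma Factor.apply {f : A →+* B} {Q : PrimeSpectrum B} (h : Factor η f Q) :
    ∃ φ : Q.asIdeal.ResidueField →+* η.obj (PrimeSpectrum.comap f Q).asIdeal.ResidueField,
      ∀ a : A, φ (algebraMap B _ (f a)) = η.eta _ (algebraMap A _ a) := by
  obtain ⟨φ, hφ⟩ := h
  refine ⟨φ, fun a => ?_⟩
  rw [← Ideal.ResidueField.map_algebraMap (PrimeSpectrum.comap f Q).asIdeal Q.asIdeal f rfl a]
  exact congr($hφ _)

lemma Factor.comp_left {f : A →+* B} {θ : B →+* C} {Q : PrimeSpectrum C}
    (h : Factor η (θ.comp f) Q) : Factor η f (PrimeSpectrum.comap θ Q) := by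
  obtain ⟨φ, hφ⟩ := h.apply
  refine Factor.mk' η
    (φ.comp (Ideal.ResidueField.map (PrimeSpectrum.comap θ Q).asIdeal Q.asIdeal θ rfl)) fun a => ?_
  exact (congrArg φ (Ideal.ResidueField.map_algebraMap _ _ θ rfl (f a))).trans (hφ a)

lemma Factor.comp_right {f : A →+* B} {θ : B →+* C} {Q : PrimeSpectrum C}
    (h : Factor η f (PrimeSpectrum.comap θ Q))
    (hb : Function.Bijective
      (Ideal.ResidueField.map (PrimeSpectrum.comap θ Q).asIdeal Q.asIdeal θ rfl)) :
    Factor η (θ.comp f) Q := by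
  obtain ⟨φ, hφ⟩ := h.apply
  refine Factor.mk' η (φ.comp ((RingEquiv.ofBijective _ hb).symm : _ →+* _)) fun a => ?_
  refine (congrArg φ ?_).trans (hφ a)
  apply hb.1
  refine (RingEquiv.apply_symm_apply (RingEquiv.ofBijective _ hb) _).trans ?_
  exact (Ideal.ResidueField.map_algebraMap _ _ θ rfl (f a)).symm

lemma Factor.bijective_map {f : A →+* B} {Q : PrimeSpectrum B} (h : Factor η f Q) :
    Function.Bijective
      (η.map (Ideal.ResidueField.map (PrimeSpectrum.comap f Q).asIdeal Q.asIdeal f rfl)) := by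
  obtain ⟨φ, hφ⟩ := h
  exact bijective_map_of_factor η _ φ hφ

lemma bijective_Nmap_iff_factor (f : A →+* B) :
    Function.Bijective (η.Nmap f) ↔
      Function.Bijective (PrimeSpectrum.comap f) ∧ ∀ Q, Factor η f Q :=
  ⟨fun h => ⟨⟨comap_injective_of_Nmap_surjective η f h.2,
      comap_surjective_of_Nmap_injective η f h.1⟩,
      fun Q => exists_factor_of_bijective_map η _ (map_bijective_of_Nmap_surjective η f h.2 Q)⟩,
    fun ⟨hc, hf⟩ => Nmap_bijective η f hc fun Q => ((hf Q).bijective_map η).2⟩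

/-! ### The spectrum of `M A` -/

/-- Evaluation of `M A` at a prime of `A`. -/
noncomputable def evalM (P : PrimeSpectrum A) : η.M A →+* η.obj P.asIdeal.ResidueField :=
  (Pi.evalRingHom (fun p : PrimeSpectrum A => η.obj p.asIdeal.ResidueField) P).comp (η.M A).subtype

lemma evalM_q (P : PrimeSpectrum A) (a : A) :
    evalM η P (η.q A a) = η.eta _ (algebraMap A _ a) := rfl

/-- The prime of `M A` over a prime of `A`. -/
noncomputable def primeM (P : PrimeSpectrum A) : PrimeSpectrum (η.M A) :=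
  ⟨RingHom.ker (evalM η P), RingHom.ker_isPrime _⟩

lemma comap_primeM (P : PrimeSpectrum A) : PrimeSpectrum.comap (η.q A) (primeM η P) = P := by
  refine PrimeSpectrum.ext (Ideal.ext fun a => ?_)
  change evalM η P (η.q A a) = 0 ↔ a ∈ P.asIdeal
  rw [evalM_q, map_eq_zero, Ideal.algebraMap_residueField_eq_zero]

lemma eq_primeM_comap (hA : (minimalPrimes A).Finite) (Q : PrimeSpectrum (η.M A)) :
    Q = primeM η (PrimeSpectrum.comap (η.q A) Q) := by
  classical
  have hfin : {P : PrimeSpectrum A | P.asIdeal ∈ minimalPrimes A}.Finite :=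
    hA.preimage fun a _ b _ e => PrimeSpectrum.ext e
  have hle : hfin.toFinset.inf (fun P => RingHom.ker (evalM η P)) ≤ Q.asIdeal := by
    intro x hx
    rw [show x = 0 from Subtype.ext (mem_M.eq_zero η x.2 fun P hP => ?_)]
    · exact zero_mem _
    exact (Finset.inf_le (f := fun P => RingHom.ker (evalM η P)) (hfin.mem_toFinset.mpr hP)) hx
  obtain ⟨p₀, -, hp₀⟩ := (Ideal.IsPrime.inf_le' Q.isPrime).mp hle
  set L := η.obj p₀.asIdeal.ResidueField
  obtain ⟨O, g, hg, hc⟩ := exists_valuationSubring_center (evalM η p₀) Q.asIdeal hp₀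
  refine PrimeSpectrum.ext (Ideal.ext fun x => ?_)
  have hr : η.eta L (g x) = ev η (O.subtype.comp (g.comp (η.q A))) x.1 := by
    rw [← RingHom.comp_assoc, hg]
    change η.eta L _ = ev η ((η.eta _).comp (algebraMap A p₀.asIdeal.ResidueField)) x.1
    rw [ev_comp, ev_res, ← eta_obj_eq]
    exact congrArg (η.eta L) congr($hg x)
  have key := mem_M.ev_residue η x.2 O (bijective_eta_obj η _) (g.comp (η.q A)) hr _
    (IsLocalRing.residue O)
  have e : kerPt ((IsLocalRing.residue O).comp (g.comp (η.q A))) =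
      PrimeSpectrum.comap (η.q A) Q := by
    refine PrimeSpectrum.ext ?_
    change RingHom.ker _ = Q.asIdeal.comap (η.q A)
    rw [← RingHom.comp_assoc, ← RingHom.comap_ker, ker_comp_residue, hc]
  rw [ev_eq η _ (kerPt _) (liftPt _) (liftPt_comp _)] at key
  change x ∈ Q.asIdeal ↔ (x : η.N A) (PrimeSpectrum.comap (η.q A) Q) = 0
  rw [← e, ← hc, Ideal.mem_comap, ← IsLocalRing.residue_eq_zero_iff,
    ← map_eq_zero (η.eta (IsLocalRing.ResidueField O)), ← key, map_eq_zero]

lemma bijective_comap_q (hA : (minimalPrimes A).Finite) :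
    Function.Bijective (PrimeSpectrum.comap (η.q A)) :=
  ⟨fun Q Q' e => by rw [eq_primeM_comap η hA Q, e, ← eq_primeM_comap η hA Q'],
    fun P => ⟨primeM η P, comap_primeM η P⟩⟩

lemma evalM_comp_map_eq (hA : (minimalPrimes A).Finite) (Q : PrimeSpectrum (η.M A)) :
    ∃ φ : Q.asIdeal.ResidueField →+* η.obj (PrimeSpectrum.comap (η.q A) Q).asIdeal.ResidueField,
      ∀ x : η.M A, φ (algebraMap _ _ x) = (x : η.N A) (PrimeSpectrum.comap (η.q A) Q) := by
  have hQ : Q.asIdeal = RingHom.ker (evalM η (PrimeSpectrum.comap (η.q A) Q)) :=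
    congrArg PrimeSpectrum.asIdeal (eq_primeM_comap η hA Q)
  refine ⟨Ideal.ResidueField.lift Q.asIdeal (evalM η _) hQ.le ?_,
    fun x => Ideal.ResidueField.lift_algebraMap _ _ _ _ x⟩
  intro x hx
  exact isUnit_iff_ne_zero.mpr fun e => hx (hQ.ge e)

lemma factor_q (hA : (minimalPrimes A).Finite) (Q : PrimeSpectrum (η.M A)) :
    Factor η (η.q A) Q := by
  obtain ⟨φ, hφ⟩ := evalM_comp_map_eq η hA Q
  exact Factor.mk' η φ fun a => hφ _

lemma bijective_Nmap_q (hA : (minimalPrimes A).Finite) : Function.Bijective (η.Nmap (η.q A)) :=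
  (bijective_Nmap_iff_factor η _).mpr ⟨bijective_comap_q η hA, factor_q η hA⟩

lemma Nmap_q_eq_t (hA : (minimalPrimes A).Finite) (x : η.M A) :
    η.Nmap (η.q A) (x : η.N A) = η.t (η.M A) x := by
  funext Q
  obtain ⟨φ, hφ⟩ := evalM_comp_map_eq η hA Q
  rw [Nmap_apply, ← hφ x, t_apply]
  refine map_factor_apply η _ φ ?_ _
  refine Ideal.ResidueField.ringHom_ext (RingHom.ext fun a => ?_)
  exact (congrArg φ (Ideal.ResidueField.map_algebraMap _ _ (η.q A) rfl a)).trans (hφ _)

/-! ### Integral maps inducing a bijection on `N` -/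

lemma exists_factor_valuationRing (f : A →+* B) (hf : f.IsIntegral)
    (hN : Function.Bijective (η.Nmap f)) (R : Type u) [CommRing R] [IsDomain R] [ValuationRing R]
    (hR : η.InV R) (g : A →+* R) : ∃ g' : B →+* R, g'.comp f = g := by
  let L := FractionRing R
  let gL : A →+* L := (algebraMap R L).comp g
  obtain ⟨⟨hinj, hsurj⟩, hfac⟩ := (bijective_Nmap_iff_factor η f).mp hN
  obtain ⟨Q, hQ⟩ := hsurj (kerPt gL)
  obtain ⟨φ, hφ⟩ := (hfac Q).apply
  have hQ' : RingHom.ker gL = (PrimeSpectrum.comap f Q).asIdeal :=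
    (congrArg PrimeSpectrum.asIdeal hQ).symm
  let g0 : (PrimeSpectrum.comap f Q).asIdeal.ResidueField →+* L :=
    Ideal.ResidueField.lift _ gL hQ'.ge fun a ha =>
      isUnit_iff_ne_zero.mpr fun e => ha (hQ'.le e)
  let h0 : B →+* L :=
    ((RingEquiv.ofBijective _ hR).symm : η.obj L →+* L).comp
      ((η.map g0).comp (φ.comp (algebraMap B _)))
  have h0f : ∀ a, h0 (f a) = gL a := by
    intro a
    apply hR.1
    refine (RingEquiv.apply_symm_apply (RingEquiv.ofBijective _ hR) _).trans ?_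
    change η.map g0 (φ (algebraMap B _ (f a))) = _
    rw [hφ, eta_natural_apply]
    exact congrArg _ (Ideal.ResidueField.lift_algebraMap _ _ _ _ a)
  have := isIntegrallyClosed_of_valuationRing R
  have hint : ∀ b, ∃ r : R, algebraMap R L r = h0 b := by
    intro b
    refine IsIntegrallyClosed.isIntegral_iff.mp ?_
    obtain ⟨p, hp, hp0⟩ := hf b
    refine ⟨p.map g, hp.map g, ?_⟩
    rw [Polynomial.eval₂_map]
    have := congrArg h0 hp0
    rwa [Polynomial.hom_eval₂, map_zero,
      show h0.comp f = (algebraMap R L).comp g from RingHom.ext h0f] at this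
  choose g' hg' using hint
  have hj : Function.Injective (algebraMap R L) := IsFractionRing.injective R L
  refine ⟨{
      toFun := g'
      map_one' := hj (by rw [hg', map_one, map_one])
      map_mul' := fun a b => hj (by rw [hg', map_mul, map_mul, hg', hg'])
      map_zero' := hj (by rw [hg', map_zero, map_zero])
      map_add' := fun a b => hj (by rw [hg', map_add, map_add, hg', hg']) }, ?_⟩
  ext a
  exact hj ((hg' (f a)).trans (h0f a))

lemma bijOn_Nmap_M (f : A →+* B) (hf : f.IsIntegral) (hN : Function.Bijective (η.Nmap f)) :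
    Set.BijOn (η.Nmap f) (η.M A) (η.M B) := by
  refine ⟨fun x hx => Nmap_mem_M η f hx, hN.1.injOn, fun y hy => ?_⟩
  obtain ⟨x, rfl⟩ := hN.2 y
  refine ⟨x, ?_, rfl⟩
  intro R _ _ _ hR g
  obtain ⟨g', rfl⟩ := exists_factor_valuationRing η f hf hN R hR g
  rw [Nmap_comp]
  exact hy R hR g'

/-- The restriction of `N f` to the pointwise rings. -/
noncomputable def Mmap (f : A →+* B) : η.M A →+* η.M B :=
  (η.Nmap f).restrict (η.M A) (η.M B) fun _ hx => Nmap_mem_M η f hx

@[simp] lemma coe_Mmap (f : A →+* B) (x : η.M A) :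
    (Mmap η f x : η.N B) = η.Nmap f (x : η.N A) := rfl

lemma Mmap_comp_q (f : A →+* B) : (Mmap η f).comp (η.q A) = (η.q B).comp f :=
  RingHom.ext fun a => Subtype.ext (η.Nmap_t_apply f a)

lemma bijective_Mmap (f : A →+* B) (hf : f.IsIntegral) (hN : Function.Bijective (η.Nmap f)) :
    Function.Bijective (Mmap η f) := by
  refine ⟨fun x y e => Subtype.ext (hN.1 (congrArg Subtype.val e)), fun y => ?_⟩
  obtain ⟨x, hx, e⟩ := (bijOn_Nmap_M η f hf hN).surjOn y.2
  exact ⟨⟨x, hx⟩, Subtype.ext e⟩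

lemma q_injective [IsReduced A] : Function.Injective (η.q A) :=
  fun _ _ e => t_injective η (congrArg Subtype.val e)

lemma bijective_q_M (hA : (minimalPrimes A).Finite) : Function.Bijective (η.q (η.M A)) := by
  refine ⟨fun x y e => ?_, fun y => ?_⟩
  · apply Subtype.ext
    apply (bijective_Nmap_q η hA).1
    rw [Nmap_q_eq_t η hA, Nmap_q_eq_t η hA]
    exact congrArg Subtype.val e
  · obtain ⟨x, rfl⟩ := (bijective_Mmap η (η.q A) (isIntegral_q η hA) (bijective_Nmap_q η hA)).2 y
    exact ⟨x, Subtype.ext (Nmap_q_eq_t η hA x).symm⟩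

lemma bijective_of_Nmap_bijective (hA : (minimalPrimes A).Finite) [IsReduced B] (f : η.M A →+* B)
    (hf : f.IsIntegral) (hN : Function.Bijective (η.Nmap f)) : Function.Bijective f := by
  have h : Function.Bijective ((η.q B).comp f) := by
    rw [← Mmap_comp_q]
    exact (bijective_Mmap η f hf hN).comp (bijective_q_M η hA)
  exact (Function.Bijective.of_comp_iff' ⟨q_injective η, Function.Surjective.of_comp (g := f) h.2⟩ f).mp h

lemma existsUnique_lift_q (hA : (minimalPrimes A).Finite) (g : A →+* B) (hg : g.IsIntegral)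
    (hN : Function.Bijective (η.Nmap g)) : ∃! g' : B →+* η.M A, g'.comp g = η.q A := by
  let e := RingEquiv.ofBijective _ (bijective_Mmap η g hg hN)
  refine ⟨(e.symm : η.M B →+* η.M A).comp (η.q B), ?_, fun g'' hg'' => ?_⟩
  · change ((e.symm : η.M B →+* η.M A).comp (η.q B)).comp g = η.q A
    rw [RingHom.comp_assoc, ← Mmap_comp_q]
    ext1 a
    exact e.symm_apply_apply _
  · ext1 b
    apply (bijective_q_M η hA).1
    apply Subtype.ext
    obtain ⟨x, hx⟩ := (bijective_Mmap η g hg hN).2 (η.q B b)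
    have hx' : η.Nmap g (x : η.N A) = η.t B b := congrArg Subtype.val hx
    have h1 : ((e.symm : η.M B →+* η.M A).comp (η.q B)) b = x := by
      change e.symm (η.q B b) = x
      rw [← hx]; exact e.symm_apply_apply _
    rw [h1]
    refine Eq.trans (b := η.Nmap g'' (η.Nmap g (x : η.N A))) ?_ ?_
    · rw [hx']
      exact (η.Nmap_t_apply g'' b).symm
    · rw [← Nmap_comp, hg'']
      exact Nmap_q_eq_t η hA x

end Groth.Agent.EtaPt32
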