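import Groth.Agent.EtaPt32.Spec
import Mathlib.FieldTheory.Perfect

/-!
# The pointwise ring of a valuation ring and of an integrally closed domain
-/

set_option autoImplicit false
universe u
open EtaPt

namespace Groth.Agent.EtaPt32

variable (η : FieldEndo.{u})

/-- The generic point of a domain. -/
abbrev genPt (A : Type u) [CommRing A] [IsDomain A] : PrimeSpectrum A :=
  ⟨⊥, Ideal.isPrime_bot⟩

lemma injOn_generic (A : Type u) [CommRing A] [IsDomain A] :
    Set.InjOn (fun x : η.N A => x (genPt A)) (η.M A) := fun _ hx _ hy h =>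
  sub_eq_zero.mp (funext fun P => mem_M.apply_eq_zero_of_le η (sub_mem hx hy) (genPt A) P bot_le
    (sub_eq_zero.mpr h))

lemma mem_range_of_isIntegralElem (A : Type u) [CommRing A] [IsDomain A] [IsIntegrallyClosed A]
    (c : (⊥ : Ideal A).ResidueField)
    (h : ((η.eta (⊥ : Ideal A).ResidueField).comp
      (algebraMap A (⊥ : Ideal A).ResidueField)).IsIntegralElem (η.eta _ c)) :
    c ∈ (algebraMap A (⊥ : Ideal A).ResidueField).range := by
  obtain ⟨p, hp, hp0⟩ := h
  refine IsIntegrallyClosed.isIntegral_iff.mp ⟨p, hp, ?_⟩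
  apply (η.eta _).injective
  rw [Polynomial.hom_eval₂, hp0, map_zero]

lemma bijective_q_of_isIntegrallyClosed (A : Type u) [CommRing A] [IsDomain A]
    [IsIntegrallyClosed A] (hA : η.InV A) : Function.Bijective (η.q A) := by
  refine ⟨q_injective η, fun x => ?_⟩
  have hb := (inV_iff η A (L := (⊥ : Ideal A).ResidueField)).mp hA
  obtain ⟨c, hc⟩ := hb.2 ((x : η.N A) (genPt A))
  have := mem_M.isIntegralElem_apply η x.2 (genPt A)
  rw [← hc] at this
  obtain ⟨a, rfl⟩ := mem_range_of_isIntegralElem η A c this
  exact ⟨a, Subtype.ext (injOn_generic η A (η.t_mem_M A a) x.2 hc)⟩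

variable (R : Type u) [CommRing R] [IsDomain R] [ValuationRing R]

/-- Every element over the generic point which is integral comes from `M R`. -/
lemma exists_mem_M_of_isIntegralElem (hη : η.InV R ∨ ∀ (k : Type u) [Field k],
      ringChar k = ringChar R → Function.Bijective (η.eta k) → PerfectField k)
    {y : η.obj (⊥ : Ideal R).ResidueField}
    (hy : ((η.eta (⊥ : Ideal R).ResidueField).comp
      (algebraMap R (⊥ : Ideal R).ResidueField)).IsIntegralElem y) :
    ∃ x ∈ η.M R, x (genPt R) = y := by
  have := isIntegrallyClosed_of_valuationRing R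
  set K := (⊥ : Ideal R).ResidueField
  by_cases hV : Function.Bijective (η.eta K)
  · obtain ⟨c, rfl⟩ := hV.2 y
    obtain ⟨a, rfl⟩ := mem_range_of_isIntegralElem η R c hy
    exact ⟨η.t R a, η.t_mem_M R a, rfl⟩
  have hK : ringExpChar K ≠ 1 := fun h => hV (bijective_eta_of_ringExpChar_eq_one η h)
  have hη' := hη.resolve_left fun h => hV ((inV_iff η R).mp h)
  obtain ⟨p, hp⟩ := CharP.exists K
  have hp' : p.Prime := by
    refine (CharP.char_is_prime_or_zero K p).resolve_right fun h0 => hK ?_
    subst h0
    have := CharP.charP_to_charZero K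
    exact ringExpChar.eq_one _
  have := Fact.mk hp'
  have hep : ringExpChar K = p := ringExpChar.eq K p
  obtain ⟨n, c, hc⟩ := η.exists_pow_mem_range_eta K y
  rw [hep] at hc
  have hc' : ((η.eta K).comp (algebraMap R K)).IsIntegralElem (η.eta K c) := by
    rw [hc]
    let _ : Algebra R (η.obj K) := ((η.eta K).comp (algebraMap R K)).toAlgebra
    exact IsIntegral.pow hy _
  obtain ⟨r, rfl⟩ := mem_range_of_isIntegralElem η R c hc'
  have hRp : CharP R p :=
    (algebraMap R K).charP (IsFractionRing.injective R K) p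
  have hperf : ∀ P : PrimeSpectrum R,
      ∃ z : η.obj P.asIdeal.ResidueField, z ^ p ^ n = η.t R r P := by
    intro P
    have hchar : CharP (η.obj P.asIdeal.ResidueField) p := by
      refine CharP.charP_iff_prime_eq_zero hp' |>.mpr ?_
      rw [← map_natCast ((η.eta _).comp (algebraMap R P.asIdeal.ResidueField)),
        CharP.cast_eq_zero R p, map_zero]
    have := hη' (η.obj P.asIdeal.ResidueField)
      ((ringChar.eq _ p).trans (ringChar.eq R p).symm) (bijective_eta_obj η _)
    have : PerfectRing (η.obj P.asIdeal.ResidueField) p := PerfectField.toPerfectRing p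
    exact (bijective_iterateFrobenius _ p n).2 _
  choose x hx using hperf
  refine ⟨x, mem_M_of_pow_mem η p (CharP.cast_eq_zero R p) n ?_, ?_⟩
  · rw [show x ^ p ^ n = η.t R r from funext hx]
    exact η.t_mem_M R r
  · have : CharP (η.obj K) p := charP_of_injective_ringHom (η.eta K).injective p
    exact iterateFrobenius_inj (η.obj K) p n ((hx (genPt R)).trans hc)

lemma image_M_eq (hη : η.InV R ∨ ∀ (k : Type u) [Field k],
      ringChar k = ringChar R → Function.Bijective (η.eta k) → PerfectField k) :
    (fun x : η.N R => x (genPt R)) '' (η.M R : Set (η.N R)) =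
      {y | ((η.eta (⊥ : Ideal R).ResidueField).comp
        (algebraMap R (⊥ : Ideal R).ResidueField)).IsIntegralElem y} := by
  ext y
  refine ⟨?_, fun hy => exists_mem_M_of_isIntegralElem η R hη hy⟩
  rintro ⟨x, hx, rfl⟩
  exact mem_M.isIntegralElem_apply η hx (genPt R)

/-- In the function field, an element or its inverse is integral. -/
lemma isIntegralElem_or_inv (y : η.obj (⊥ : Ideal R).ResidueField) :
    ((η.eta (⊥ : Ideal R).ResidueField).comp
        (algebraMap R (⊥ : Ideal R).ResidueField)).IsIntegralElem y ∨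
      ((η.eta (⊥ : Ideal R).ResidueField).comp
        (algebraMap R (⊥ : Ideal R).ResidueField)).IsIntegralElem y⁻¹ := by
  set K := (⊥ : Ideal R).ResidueField
  let _ : Algebra R (η.obj K) := ((η.eta K).comp (algebraMap R K)).toAlgebra
  obtain ⟨n, c, hc⟩ := η.exists_pow_mem_range_eta K y
  have := ringExpChar.expChar K
  have hpos : 0 < ringExpChar K ^ n := pow_pos (expChar_pos K _) _
  rcases ValuationRing.isInteger_or_isInteger R c with ⟨r, hr⟩ | ⟨r, hr⟩
  · left
    refine IsIntegral.of_pow hpos (R := R) ?_
    rw [← hc, ← hr]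
    exact isIntegral_algebraMap (R := R) (A := η.obj K) (x := r)
  · right
    refine IsIntegral.of_pow hpos (R := R) ?_
    rw [inv_pow, ← hc, ← map_inv₀, ← hr]
    exact isIntegral_algebraMap (R := R) (A := η.obj K) (x := r)

end Groth.Agent.EtaPt32
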